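import Groth.Prelude.Def_W4c5stacksedinertiaGpd
import Mathlib.GroupTheory.Coset.Card
import Mathlib.GroupTheory.SpecificGroups.Cyclic
import Mathlib.LinearAlgebra.Eigenspace.Basic
import Mathlib.Data.Nat.Choose.Sum
import Mathlib.Tactic.Module
import Mathlib.Data.Rat.Cast.CharZero

/-!
# Inertia operators on the space of finite groupoids

`inertia ∘ inertiaR r = inertiaR (r+1) + r • inertiaR r`, triangularity for the centre filtration,
and the resulting eigenspace decomposition.
-/

universe u v

open W4c5stacksedinertia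

namespace GrothLib.Inertia

attribute [local instance] Fintype.ofFinite

instance commTupleFinite (G : Type u) [Group G] [Finite G] (r : ℕ) : Finite (CommTuple G r) :=
  Finite.of_injective (Subtype.val) Subtype.val_injective

variable {G : Type u} [Group G] [Finite G] {H : Type v} [Group H] [Finite H]

theorem mulEquiv_of : Nonempty ((FinGrp.of G).carrier ≃* G) :=
  ⟨(Nat.equivFinOfCardPos (α := G) Nat.card_pos.ne').symm.mulEquiv⟩

theorem idxOf_congr (e : G ≃* H) : Idx.of G = Idx.of H := by
  obtain ⟨a⟩ := mulEquiv_of (G := G)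
  obtain ⟨b⟩ := mulEquiv_of (G := H)
  exact Quotient.sound (s := FinGrp.setoid) ⟨(a.trans e).trans b.symm⟩

theorem cl_congr (e : G ≃* H) : cl G = cl H := by rw [cl, cl, idxOf_congr e]

theorem repEquiv : Nonempty ((Idx.of G).rep ≃* G) := by
  obtain ⟨a⟩ := mulEquiv_of (G := G)
  obtain ⟨b⟩ := Quotient.mk_out (s := FinGrp.setoid) (FinGrp.of G)
  exact ⟨b.trans a⟩

theorem idxOf_rep (i : Idx) : Idx.of i.rep = i := by
  obtain ⟨a⟩ := mulEquiv_of (G := i.rep)
  conv_rhs => rw [← Quotient.out_eq (s := FinGrp.setoid) i]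
  exact Quotient.sound (s := FinGrp.setoid) ⟨a⟩

theorem card_idxOf : (Idx.of G).card = Nat.card G := Nat.card_congr (repEquiv (G := G)).some.toEquiv

theorem centerCard_idxOf : (Idx.of G).centerCard = Nat.card (Subgroup.center G) :=
  Nat.card_congr (Subgroup.centerCongr (repEquiv (G := G)).some).toEquiv

/-- the common centralizer of a tuple -/
abbrev cent {m : ℕ} (t : Fin m → G) : Subgroup G := Subgroup.centralizer (Set.range t)

omit [Finite G] in
theorem mem_cent {m : ℕ} {t : Fin m → G} {x : G} : x ∈ cent t ↔ ∀ i, t i * x = x * t i := by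
  simp [cent, Subgroup.mem_centralizer_iff]

/-- weighted centralizer class of a tuple -/
noncomputable def wcl {m : ℕ} (t : Fin m → G) : K :=
  ((Nat.card (cent t) : ℚ) / (Nat.card G : ℚ)) • cl (cent t)

/-- the sum of weighted classes over all tuples -/
noncomputable def tot (r : ℕ) (G : Type u) [Group G] [Finite G] : K :=
  ∑ s : CommTuple G r, wcl s.1

theorem wcl_range {m n : ℕ} (t : Fin m → G) (t' : Fin n → G) (h : Set.range t = Set.range t') :
    wcl t = wcl t' := by
  have e : cent t = cent t' := by rw [cent, cent, h]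
  have e' := MulEquiv.subgroupCongr e
  simp only [wcl, cl_congr e', Nat.card_congr e'.toEquiv]

/-- image of a centralizer under an isomorphism -/
def centEquiv {m : ℕ} (e : G ≃* H) (t : Fin m → G) : cent t ≃* cent (fun i => e (t i)) where
  toFun x := ⟨e x.1, mem_cent.2 fun i => by rw [← map_mul, ← map_mul, mem_cent.1 x.2 i]⟩
  invFun y := ⟨e.symm y.1, mem_cent.2 fun i => e.injective (by
    rw [map_mul, map_mul, e.apply_symm_apply]; exact mem_cent.1 y.2 i)⟩
  left_inv x := Subtype.ext (e.symm_apply_apply _)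
  right_inv y := Subtype.ext (e.apply_symm_apply _)
  map_mul' x y := Subtype.ext (map_mul e x.1 y.1)

theorem wcl_congr {m : ℕ} (e : G ≃* H) (t : Fin m → G) : wcl t = wcl (fun i => e (t i)) := by
  simp only [wcl, cl_congr (centEquiv e t), Nat.card_congr (centEquiv e t).toEquiv, Nat.card_congr e.toEquiv]

/-- tuples along an isomorphism -/
def tupleEquiv (e : G ≃* H) (r : ℕ) : CommTuple G r ≃ CommTuple H r where
  toFun s := ⟨fun i => e (s.1 i), e.injective.comp s.2.1, fun i j => (s.2.2 i j).map e⟩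
  invFun s := ⟨fun i => e.symm (s.1 i), e.symm.injective.comp s.2.1, fun i j => (s.2.2 i j).map e.symm⟩
  left_inv s := Subtype.ext (funext fun i => e.symm_apply_apply _)
  right_inv s := Subtype.ext (funext fun i => e.apply_symm_apply _)

theorem tot_congr (e : G ≃* H) (r : ℕ) : tot r G = tot r H :=
  Fintype.sum_equiv (tupleEquiv e r) _ _ fun s => wcl_congr e s.1

theorem inertiaROf_eq_tot (r : ℕ) : inertiaROf r G = tot r G := by
  classical
  let _ : Fintype (CommTuple.Orbit G r) := @Quotient.fintype _ _ (CommTuple.setoid G r) (fun _ _ => Classical.propDecidable _)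
  rw [inertiaROf, finsum_eq_sum_of_fintype, tot,
    ← Finset.sum_fiberwise (Finset.univ : Finset (CommTuple G r)) (fun s => Quotient.mk (CommTuple.setoid G r) s) (fun s => wcl s.1)]
  refine Finset.sum_congr rfl fun O _ => ?_
  set o := Quotient.out (s := CommTuple.setoid G r) O with ho
  have hmem : ∀ s : CommTuple G r, Quotient.mk (CommTuple.setoid G r) s = O ↔ ∃ g : G, ∀ i, g * o.1 i * g⁻¹ = s.1 i := by
    intro s
    rw [← Quotient.out_eq O, ← ho]
    constructor
    · intro h; exact Quotient.exact h.symm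
    · intro h; exact (Quotient.sound h).symm
  have hconst : ∀ s ∈ (Finset.univ : Finset (CommTuple G r)).filter (fun s => Quotient.mk (CommTuple.setoid G r) s = O),
      wcl s.1 = wcl o.1 := by
    intro s hs
    obtain ⟨g, hg⟩ := (hmem s).1 (Finset.mem_filter.1 hs).2
    have : s.1 = fun i => MulAut.conj g (o.1 i) := funext fun i => (hg i).symm
    rw [this]
    exact (wcl_congr (MulAut.conj g) o.1).symm
  rw [Finset.sum_congr rfl hconst, Finset.sum_const]
  let Fib := {s : CommTuple G r // Quotient.mk (CommTuple.setoid G r) s = O}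
  let mv : G → Fib := fun g => ⟨⟨fun i => g * o.1 i * g⁻¹, fun i j h => o.2.1 (by simpa using h),
    fun i j => (o.2.2 i j).map (MulAut.conj g)⟩, (hmem _).2 ⟨g, fun i => rfl⟩⟩
  have hmv : ∀ g g' : G, g⁻¹ * g' ∈ cent o.1 ↔ mv g = mv g' := by
    intro g g'
    constructor
    · intro h
      refine Subtype.ext (Subtype.ext (funext fun i => ?_))
      change g * o.1 i * g⁻¹ = g' * o.1 i * g'⁻¹
      have := mem_cent.1 h i
      calc g * o.1 i * g⁻¹ = g * (o.1 i * (g⁻¹ * g')) * g'⁻¹ := by group
        _ = g * (g⁻¹ * g' * o.1 i) * g'⁻¹ := by rw [this]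
        _ = g' * o.1 i * g'⁻¹ := by group
    · intro h
      refine mem_cent.2 fun i => ?_
      have : g * o.1 i * g⁻¹ = g' * o.1 i * g'⁻¹ := congrFun (congrArg (fun z : Fib => z.1.1) h) i
      calc o.1 i * (g⁻¹ * g') = g⁻¹ * (g * o.1 i * g⁻¹) * g' := by group
        _ = g⁻¹ * (g' * o.1 i * g'⁻¹) * g' := by rw [this]
        _ = g⁻¹ * g' * o.1 i := by group
  let qm : G ⧸ cent o.1 → Fib := Quotient.lift mv fun g g' h => (hmv g g').1 (QuotientGroup.leftRel_apply.1 h)
  have hqm : Function.Bijective qm := by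
    constructor
    · intro a b
      induction a using QuotientGroup.induction_on with | _ a =>
      induction b using QuotientGroup.induction_on with | _ b =>
      intro h
      exact QuotientGroup.eq.2 ((hmv a b).2 h)
    · rintro ⟨s, hs⟩
      obtain ⟨g, hg⟩ := (hmem s).1 hs
      exact ⟨QuotientGroup.mk g, Subtype.ext (Subtype.ext (funext hg))⟩
  have hcard : ((Finset.univ : Finset (CommTuple G r)).filter (fun s => Quotient.mk (CommTuple.setoid G r) s = O)).card =
      Nat.card (G ⧸ cent o.1) := by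
    rw [Nat.card_congr (Equiv.ofBijective qm hqm), Nat.card_eq_fintype_card, Fintype.card_subtype]
  rw [hcard, wcl, ← Nat.cast_smul_eq_nsmul ℚ, smul_smul, Subgroup.card_eq_card_quotient_mul_card_subgroup (cent o.1),
    Nat.cast_mul]
  have h1 : (Nat.card (G ⧸ cent o.1) : ℚ) ≠ 0 := Nat.cast_ne_zero.2 Nat.card_pos.ne'
  have h2 : (Nat.card (cent o.1) : ℚ) ≠ 0 := Nat.cast_ne_zero.2 Nat.card_pos.ne'
  rw [show (Nat.card (G ⧸ cent o.1) : ℚ) * ((Nat.card (cent o.1) : ℚ) /
    ((Nat.card (G ⧸ cent o.1) : ℚ) * (Nat.card (cent o.1) : ℚ))) = 1 by field_simp, one_smul]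

theorem inertiaR_cl (r : ℕ) : inertiaR r (cl G) = tot r G := by
  rw [inertiaR, cl, Finsupp.linearCombination_single, one_smul, inertiaROf_eq_tot]
  exact tot_congr (repEquiv (G := G)).some r

omit [Finite G] in
theorem cent_cons_le {r : ℕ} (s : Fin r → G) (g : G) : cent (Fin.cons g s : Fin (r + 1) → G) ≤ cent s :=
  Subgroup.centralizer_le (by rw [Fin.range_cons]; exact Set.subset_insert _ _)

/-- centralizer inside a centralizer -/
def centCentEquiv {r : ℕ} (s : Fin r → G) (g : cent s) :
    cent (fun _ : Fin 1 => g) ≃* cent (Fin.cons g.1 s : Fin (r + 1) → G) where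
  toFun x := ⟨x.1.1, mem_cent.2 fun i => Fin.cases
    (by simpa using congrArg Subtype.val (mem_cent.1 x.2 0)) (fun j => by simpa using mem_cent.1 x.1.2 j) i⟩
  invFun y := ⟨⟨y.1, cent_cons_le s g.1 y.2⟩, mem_cent.2 fun _ => Subtype.ext (by simpa using mem_cent.1 y.2 0)⟩
  left_inv x := rfl
  right_inv y := rfl
  map_mul' x y := rfl

/-- one-element tuples -/
def tupleOneEquiv : CommTuple G 1 ≃ G where
  toFun t := t.1 0
  invFun g := ⟨fun _ => g, fun i j _ => Subsingleton.elim i j, fun _ _ => Commute.refl g⟩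
  left_inv t := Subtype.ext (funext fun i => by rw [Subsingleton.elim i 0])
  right_inv g := rfl

theorem inertia_wcl {r : ℕ} (s : Fin r → G) :
    inertia (wcl s) = ∑ g : cent s, wcl (Fin.cons g.1 s : Fin (r + 1) → G) := by
  rw [wcl, map_smul, inertia, inertiaR_cl, tot, Finset.smul_sum]
  refine Fintype.sum_equiv tupleOneEquiv _ _ fun t => ?_
  have hc : (Nat.card (cent s) : ℚ) ≠ 0 := Nat.cast_ne_zero.2 Nat.card_pos.ne'
  have he : t.1 = fun _ => t.1 0 := funext fun i => by rw [Subsingleton.elim i 0]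
  rw [he]
  simp only [wcl, smul_smul, tupleOneEquiv, Equiv.coe_fn_mk, cl_congr (centCentEquiv s (t.1 0)),
    Nat.card_congr (centCentEquiv s (t.1 0)).toEquiv]
  congr 1
  field_simp

/-- tuples of length `r + 1` as a tuple with an outside element commuting with it -/
def consEquiv (G : Type u) [Group G] (r : ℕ) :
    CommTuple G (r + 1) ≃ Σ s : CommTuple G r, {g : cent s.1 // g.1 ∉ Set.range s.1} where
  toFun t := ⟨⟨fun i => t.1 i.succ, fun i j h => Fin.succ_injective _ (t.2.1 h), fun i j => t.2.2 _ _⟩,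
    ⟨⟨t.1 0, mem_cent.2 fun i => t.2.2 i.succ 0⟩, by
      rintro ⟨i, hi⟩
      exact Fin.succ_ne_zero i (t.2.1 hi)⟩⟩
  invFun p := ⟨Fin.cons p.2.1.1 p.1.1, Fin.cons_injective_iff.2 ⟨p.2.2, p.1.2.1⟩, fun i j => by
    induction i using Fin.cases with
    | zero =>
      induction j using Fin.cases with
      | zero => exact Commute.refl _
      | succ j => rw [Fin.cons_zero, Fin.cons_succ]; exact (mem_cent.1 p.2.1.2 j).symm
    | succ i =>
      induction j using Fin.cases with
      | zero => rw [Fin.cons_zero, Fin.cons_succ]; exact mem_cent.1 p.2.1.2 i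
      | succ j => simpa using p.1.2.2 i j⟩
  left_inv t := Subtype.ext (Fin.cons_self_tail t.1)
  right_inv p := by
    rcases p with ⟨⟨s, hs⟩, ⟨⟨g, hg⟩, hg'⟩⟩
    rfl

theorem inertia_inertiaR_cl (r : ℕ) :
    inertia (inertiaR r (cl G)) = inertiaR (r + 1) (cl G) + (r : ℚ) • inertiaR r (cl G) := by
  classical
  simp only [inertiaR_cl, tot, map_sum, inertia_wcl]
  rw [Fintype.sum_equiv (consEquiv G r) (fun t => wcl t.1)
    (fun p => wcl (Fin.cons p.2.1.1 p.1.1 : Fin (r + 1) → G)) (fun t => by
      simp only [consEquiv, Equiv.coe_fn_mk]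
      exact wcl_range _ _ (by rw [← Fin.cons_self_tail t.1]; rfl)),
    Fintype.sum_sigma, Finset.smul_sum, ← Finset.sum_add_distrib]
  refine Finset.sum_congr rfl fun s _ => ?_
  refine (Finset.sum_filter_add_sum_filter_not (@Finset.univ (cent s.1) (Fintype.ofFinite _)) (fun g => g.1 ∉ Set.range s.1) (fun g => wcl (Fin.cons g.1 s.1 : Fin (r + 1) → G))).symm.trans ?_
  congr 1
  · exact Finset.sum_subtype _ (fun g => by simp) _
  · let ι : Fin r → cent s.1 := fun i => ⟨s.1 i, mem_cent.2 fun j => s.2.2 j i⟩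
    have hι : Function.Injective ι := fun i j h => s.2.1 (congrArg Subtype.val h)
    have : (@Finset.univ (cent s.1) (Fintype.ofFinite _)).filter (fun g => ¬ g.1 ∉ Set.range s.1) = Finset.univ.map ⟨ι, hι⟩ := by
      ext g
      simp only [Finset.mem_filter, Finset.mem_univ, true_and, not_not, Finset.mem_map, Function.Embedding.coeFn_mk]
      constructor
      · rintro ⟨i, hi⟩; exact ⟨i, Subtype.ext hi⟩
      · rintro ⟨i, rfl⟩; exact ⟨i, rfl⟩
    rw [this, Finset.sum_map, Finset.sum_congr rfl fun i _ => wcl_range _ s.1 (by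
      rw [Fin.range_cons]; exact Set.insert_eq_of_mem ⟨i, rfl⟩)]
    rw [Finset.sum_const, Finset.card_univ, Fintype.card_fin, Nat.cast_smul_eq_nsmul]

theorem cl_rep (i : Idx) : cl i.rep = Finsupp.single i 1 := by rw [cl, idxOf_rep]

/-- a property closed under linear combinations holds on all of `K` once it holds on classes -/
theorem linearMap_ext {M : Type*} [AddCommGroup M] [Module ℚ M] {f g : K →ₗ[ℚ] M}
    (h : ∀ i : Idx, f (cl i.rep) = g (cl i.rep)) : f = g :=
  Finsupp.lhom_ext fun i c => by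
    rw [show Finsupp.single i c = c • cl i.rep by rw [cl_rep, Finsupp.smul_single, smul_eq_mul, mul_one],
      map_smul, map_smul, h]

theorem inertiaR_succ (r : ℕ) (v : K) :
    inertiaR (r + 1) v = inertia (inertiaR r v) - (r : ℚ) • inertiaR r v := by
  have : (inertiaR (r + 1) : K →ₗ[ℚ] K) = inertia ∘ₗ inertiaR r - (r : ℚ) • inertiaR r :=
    linearMap_ext fun i => by
      rw [LinearMap.sub_apply, LinearMap.comp_apply, LinearMap.smul_apply, inertia_inertiaR_cl, add_sub_cancel_right]
  exact LinearMap.congr_fun this v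

theorem inertiaR_zero (v : K) : inertiaR 0 v = v := by
  have : (inertiaR 0 : K →ₗ[ℚ] K) = LinearMap.id := linearMap_ext fun i => by
    rw [inertiaR_cl, LinearMap.id_apply, tot]
    have hone : Unique (CommTuple i.rep 0) :=
      { default := ⟨Fin.elim0, fun a => a.elim0, fun a => a.elim0⟩
        uniq := fun t => Subtype.ext (funext fun a => a.elim0) }
    rw [Fintype.sum_unique]
    have htop : cent (default : CommTuple i.rep 0).1 = ⊤ := by
      ext x; simp [mem_cent]
    have e := (MulEquiv.subgroupCongr htop).trans Subgroup.topEquiv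
    rw [wcl, cl_congr e, Nat.card_congr e.toEquiv, div_self (Nat.cast_ne_zero.2 Nat.card_pos.ne'), one_smul]
  exact LinearMap.congr_fun this v

/-- inertia of a class: the centre contributes `|Z| • [G]`, the rest has smaller order and bigger centre -/
theorem inertia_cl_decomp : ∃ w : K, inertia (cl G) = (Nat.card (Subgroup.center G) : ℚ) • cl G + w ∧
    w ∈ Finsupp.supported ℚ ℚ {j : Idx | j.card < Nat.card G ∧ Nat.card (Subgroup.center G) < j.centerCard} := by
  classical
  rw [inertia, inertiaR_cl, tot,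
    ← Finset.sum_filter_add_sum_filter_not (Finset.univ : Finset (CommTuple G 1)) (fun t => t.1 0 ∈ Subgroup.center G)]
  refine ⟨_, congrArg (· + _) ?_, Submodule.sum_mem _ fun t ht => ?_⟩
  · have hconst : ∀ t ∈ (Finset.univ : Finset (CommTuple G 1)).filter (fun t => t.1 0 ∈ Subgroup.center G),
        wcl t.1 = cl G := by
      intro t ht
      have htop : cent t.1 = ⊤ := by
        refine eq_top_iff.2 fun x _ => mem_cent.2 fun i => ?_
        rw [Subsingleton.elim i 0]
        exact (Subgroup.mem_center_iff.1 (Finset.mem_filter.1 ht).2 x).symm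
      have e := (MulEquiv.subgroupCongr htop).trans Subgroup.topEquiv
      rw [wcl, cl_congr e, Nat.card_congr e.toEquiv, div_self (Nat.cast_ne_zero.2 Nat.card_pos.ne'), one_smul]
    rw [Finset.sum_congr rfl hconst, Finset.sum_const, ← Nat.cast_smul_eq_nsmul ℚ]
    congr 2
    rw [Nat.card_eq_fintype_card, ← Fintype.card_subtype]
    exact (Fintype.card_congr (tupleOneEquiv.subtypeEquiv fun t => Iff.rfl))
  · refine Submodule.smul_mem _ _ (Finsupp.single_mem_supported ℚ _ ?_)
    have hnc := (Finset.mem_filter.1 ht).2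
    refine ⟨?_, ?_⟩
    · rw [card_idxOf]
      refine lt_of_le_of_ne (Subgroup.card_le_card_group _) fun h => hnc (Subgroup.mem_center_iff.2 fun x => ?_)
      have : cent t.1 = ⊤ := Subgroup.eq_top_of_card_eq _ h
      exact (mem_cent.1 (this ▸ Subgroup.mem_top x : x ∈ cent t.1) 0).symm
    · rw [centerCard_idxOf]
      let f : Subgroup.center G → Subgroup.center (cent t.1) := fun z =>
        ⟨⟨z.1, mem_cent.2 fun i => Subgroup.mem_center_iff.1 z.2 _⟩,
          Subgroup.mem_center_iff.2 fun x => Subtype.ext (Subgroup.mem_center_iff.1 z.2 x.1)⟩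
      have hf : Function.Injective f := fun a b h =>
        Subtype.ext (congrArg (fun z : Subgroup.center (cent t.1) => z.1.1) h)
      rw [Nat.card_eq_fintype_card, Nat.card_eq_fintype_card]
      refine Fintype.card_lt_of_injective_of_notMem f hf
        (b := ⟨⟨t.1 0, mem_cent.2 fun i => by rw [Subsingleton.elim i 0]⟩,
          Subgroup.mem_center_iff.2 fun x => Subtype.ext ((mem_cent.1 x.2 0).symm)⟩) ?_
      rintro ⟨z, hz⟩
      have : z.1 = t.1 0 := congrArg (fun z : Subgroup.center (cent t.1) => z.1.1) hz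
      exact hnc (this ▸ z.2)

theorem mem_iff_forall_cl {P : Submodule ℚ K} {s : Set Idx} (h : ∀ i ∈ s, cl i.rep ∈ P) :
    Finsupp.supported ℚ ℚ s ≤ P := by
  rw [Finsupp.supported_eq_span_single, Submodule.span_le]
  rintro _ ⟨i, hi, rfl⟩
  change Finsupp.single i (1 : ℚ) ∈ P
  rw [← cl_rep]
  exact h i hi

theorem cl_mem_sup_eigenspace : ∀ (n : ℕ) (i : Idx), i.card = n →
    cl i.rep ∈ ⨆ (m : ℕ) (_ : i.centerCard ≤ m), Module.End.eigenspace inertia (m : ℚ) := by
  intro n
  induction n using Nat.strong_induction_on with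
  | _ n ih =>
    intro i hi
    obtain ⟨w, hw, hws⟩ := inertia_cl_decomp (G := i.rep)
    set z := i.centerCard
    have hz : Nat.card (Subgroup.center i.rep) = z := rfl
    rw [hz] at hw hws
    let P : Submodule ℚ K := ⨆ (m : ℕ) (_ : z < m), Module.End.eigenspace inertia (m : ℚ)
    have hwP : w ∈ P := by
      refine mem_iff_forall_cl (fun j hj' => ?_) hws
      refine SetLike.le_def.1 (iSup₂_le fun m hm => ?_) (ih j.card (hi ▸ hj'.1) j rfl)
      exact le_iSup₂_of_le m (lt_of_lt_of_le hj'.2 hm) le_rfl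
    -- `inertia - z` is invertible on `P`
    have hsurj : P ≤ (P.map (inertia - (z : ℚ) • LinearMap.id : K →ₗ[ℚ] K)) := by
      refine iSup₂_le fun m hm x hx => ?_
      refine ⟨((m : ℚ) - z)⁻¹ • x, Submodule.smul_mem _ _ (le_iSup₂ (f := fun m (_ : z < m) => Module.End.eigenspace inertia (m : ℚ)) m hm hx), ?_⟩
      rw [map_smul, LinearMap.sub_apply, LinearMap.smul_apply, LinearMap.id_apply,
        Module.End.mem_eigenspace_iff.1 hx, ← sub_smul, smul_smul, inv_mul_cancel₀, one_smul]
      exact sub_ne_zero.2 (by exact_mod_cast hm.ne')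
    obtain ⟨u, hu, huw⟩ := hsurj hwP
    have hmem : cl i.rep - u ∈ Module.End.eigenspace inertia (z : ℚ) := by
      rw [Module.End.mem_eigenspace_iff, map_sub, hw, smul_sub]
      rw [LinearMap.sub_apply, LinearMap.smul_apply, LinearMap.id_apply] at huw
      rw [← huw]
      abel
    have h1 : Module.End.eigenspace inertia (z : ℚ) ≤ ⨆ (m : ℕ) (_ : z ≤ m), Module.End.eigenspace inertia (m : ℚ) :=
      le_iSup₂_of_le z le_rfl le_rfl
    have h2 : P ≤ ⨆ (m : ℕ) (_ : z ≤ m), Module.End.eigenspace inertia (m : ℚ) :=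
      iSup₂_le fun m hm => le_iSup₂_of_le m hm.le le_rfl
    simpa using Submodule.add_mem _ (h1 hmem) (h2 hu)

theorem iSup_eigenspace : ⨆ n : ℕ, Module.End.eigenspace inertia (n : ℚ) = ⊤ := by
  rw [eq_top_iff, ← Finsupp.supported_univ]
  exact mem_iff_forall_cl fun i _ => SetLike.le_def.1 (iSup₂_le fun m _ => le_iSup (fun n : ℕ => Module.End.eigenspace inertia (n : ℚ)) m)
    (cl_mem_sup_eigenspace _ i rfl)

theorem centerCard_pos (i : Idx) : 0 < i.centerCard := Nat.card_pos

theorem iSup_pos_eigenspace : ⨆ (n : ℕ) (_ : 0 < n), Module.End.eigenspace inertia (n : ℚ) = ⊤ := by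
  rw [eq_top_iff, ← Finsupp.supported_univ]
  exact mem_iff_forall_cl fun i _ => SetLike.le_def.1 (iSup₂_le fun m hm => le_iSup₂_of_le m ((centerCard_pos i).trans_le hm) le_rfl)
    (cl_mem_sup_eigenspace _ i rfl)

theorem inertiaR_eigen {n : ℕ} {v : K} (hv : v ∈ Module.End.eigenspace inertia (n : ℚ)) :
    ∀ r, inertiaR r v = ((n.descFactorial r : ℕ) : ℚ) • v
  | 0 => by simp [inertiaR_zero]
  | r + 1 => by
    rw [inertiaR_succ, inertiaR_eigen hv r, map_smul, Module.End.mem_eigenspace_iff.1 hv, smul_smul, smul_smul,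
      ← sub_smul]
    congr 1
    rw [Nat.descFactorial_succ]
    rcases le_or_gt r n with h | h
    · push_cast [Nat.cast_sub h]; ring
    · simp [Nat.descFactorial_of_lt h, Nat.sub_eq_zero_of_le h.le]

theorem inertia_eigen_cyclic (n : ℕ) (hn : 0 < n) : Module.End.HasEigenvalue inertia (n : ℚ) := by
  have : NeZero n := ⟨hn.ne'⟩
  obtain ⟨w, hw, hws⟩ := inertia_cl_decomp (G := Multiplicative (ZMod n))
  have hc : Subgroup.center (Multiplicative (ZMod n)) = ⊤ := CommGroup.center_eq_top
  have hcard : Nat.card (Subgroup.center (Multiplicative (ZMod n))) = n := by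
    rw [hc, Nat.card_congr (Subgroup.topEquiv).toEquiv, Nat.card_congr Multiplicative.toAdd, Nat.card_zmod]
  refine Module.End.hasEigenvalue_of_hasEigenvector (x := cl (Multiplicative (ZMod n))) ⟨?_, ?_⟩
  · rw [Module.End.mem_eigenspace_iff, hw, hcard]
    suffices w = 0 by rw [this, add_zero]
    rw [← Finsupp.support_eq_empty, Finset.eq_empty_iff_forall_notMem]
    intro j hj
    obtain ⟨h1, h2⟩ := (Finsupp.mem_supported ℚ w).1 hws hj
    rw [hcard] at h2
    have h3 : Nat.card (Multiplicative (ZMod n)) = n := by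
      rw [Nat.card_congr Multiplicative.toAdd, Nat.card_zmod]
    rw [h3] at h1
    have : j.centerCard ≤ j.card := Subgroup.card_le_card_group _
    omega
  · exact Finsupp.single_ne_zero.2 one_ne_zero

theorem inertia_mem_Kge {k : ℕ} {v : K} (hv : v ∈ Kge k) :
    inertia v - (k : ℚ) • v ∈ Kge (k + 1) := by
  suffices h : Kge k ≤ (Kge (k + 1)).comap (inertia - (k : ℚ) • LinearMap.id : K →ₗ[ℚ] K) by
    simpa using h hv
  refine mem_iff_forall_cl fun i hi => ?_
  rw [Submodule.mem_comap, LinearMap.sub_apply, LinearMap.smul_apply, LinearMap.id_apply]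
  obtain ⟨w, hw, hws⟩ := inertia_cl_decomp (G := i.rep)
  rw [hw]
  have hwm : w ∈ Kge (k + 1) := Finsupp.supported_mono (fun j hj => Nat.succ_le_of_lt (lt_of_le_of_lt hi hj.2)) hws
  rcases (show k ≤ i.centerCard from hi).lt_or_eq with h | h
  · have hcl : cl i.rep ∈ Kge (k + 1) := by
      rw [cl_rep]; exact Finsupp.single_mem_supported ℚ _ h
    exact Submodule.sub_mem _ (Submodule.add_mem _ (Submodule.smul_mem _ _ hcl) hwm) (Submodule.smul_mem _ _ hcl)
  · rw [show Nat.card (Subgroup.center i.rep) = k from h.symm, add_sub_cancel_left]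
    exact hwm

theorem inertiaR_mem_Kge {k : ℕ} {v : K} (hv : v ∈ Kge k) :
    ∀ r, inertiaR r v - ((k.descFactorial r : ℕ) : ℚ) • v ∈ Kge (k + 1)
  | 0 => by simp [inertiaR_zero]
  | r + 1 => by
    have ih := inertiaR_mem_Kge hv r
    have hpres : ∀ x ∈ Kge (k + 1), inertia x ∈ Kge (k + 1) := fun x hx => by
      have h := Finsupp.supported_mono (M := ℚ) (R := ℚ) (s := {j : Idx | k + 1 + 1 ≤ j.centerCard}) (t := {j | k + 1 ≤ j.centerCard}) (fun j hj => Nat.le_of_succ_le hj) (inertia_mem_Kge hx)
      have h2 := Submodule.add_mem (Kge (k + 1)) h (Submodule.smul_mem _ ((k + 1 : ℕ) : ℚ) hx)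
      rwa [sub_add_cancel] at h2
    set d := ((k.descFactorial r : ℕ) : ℚ)
    have hd : ((k.descFactorial (r + 1) : ℕ) : ℚ) = d * ((k : ℚ) - r) := by
      rw [Nat.descFactorial_succ]
      rcases le_or_gt r k with h | h
      · push_cast [Nat.cast_sub h]; ring
      · simp [d, Nat.descFactorial_of_lt h, Nat.sub_eq_zero_of_le h.le]
    have h3 := Submodule.add_mem _ (Submodule.sub_mem _ (hpres _ ih) (Submodule.smul_mem _ (r : ℚ) ih))
      (Submodule.smul_mem _ d (inertia_mem_Kge hv))
    convert h3 using 1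
    rw [inertiaR_succ, hd, map_sub, map_smul]
    module

end GrothLib.Inertia
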